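import Cfsg.Agent.SymSylow.EvenTwo.Orbits

/-!
The Sylow `2`-subgroup of an alternating group as the even part of a product of wreath products.
-/

set_option autoImplicit false
set_option linter.style.haveILetI false

namespace Cfsg.Lib.SymSylow.EvenTwo

open Equiv

theorem padic_factorial (n : ℕ) : padicValNat 2 n.factorial = (n.bitIndices.map fun k => 2 ^ k - 1).sum := by
  induction n using Nat.strong_induction_on with
  | _ n ih =>
    rcases Nat.eq_zero_or_pos n with rfl | hn
    · simp
    have key : ∀ m : ℕ, (m.bitIndices.map fun k => 2 ^ (k + 1) - 1).sum = (m.bitIndices.map fun k => 2 ^ k - 1).sum + m := by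
      intro m
      conv_rhs => arg 2; rw [← Nat.sum_map_two_pow_bitIndices m]
      rw [← List.sum_map_add]
      refine congrArg List.sum (List.map_congr_left fun k _ => ?_)
      have := Nat.one_le_two_pow (n := k)
      rw [pow_succ]; omega
    obtain ⟨m, rfl | rfl⟩ : ∃ m, n = 2 * m ∨ n = 2 * m + 1 := ⟨n / 2, by omega⟩
    · rw [padicValNat_factorial_mul, ih m (by omega), Nat.bitIndices_two_mul, List.map_map]
      exact (key m).symm
    · rw [padicValNat_factorial_mul_add m (by norm_num : 1 < 2), padicValNat_factorial_mul, ih m (by omega),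
        Nat.bitIndices_two_mul_add_one, List.map_cons, List.map_map, List.sum_cons, pow_zero, Nat.sub_self, zero_add]
      exact (key m).symm

/-- The orbit sizes. -/
abbrev orb (n : ℕ) : Fin n.bitIndices.length → ℕ := fun i => n.bitIndices.get i

theorem orb_injective (n : ℕ) : Function.Injective (orb n) :=
  List.Nodup.injective_get Nat.bitIndices_nodup

theorem exists_orb {n k : ℕ} (h : n.testBit k = true) : ∃ i, orb n i = k :=
  List.mem_iff_get.1 (Nat.mem_bitIndices.2 h)

theorem testBit_orb (n : ℕ) (i : Fin n.bitIndices.length) : n.testBit (orb n i) = true :=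
  Nat.mem_bitIndices.1 (List.get_mem _ _)

theorem card_dom (n : ℕ) : Fintype.card (Σ i : Fin n.bitIndices.length, X (orb n i)) = n := by
  rw [Fintype.card_sigma]
  conv_rhs => rw [← Nat.sum_map_two_pow_bitIndices n, ← List.ofFn_get (l := n.bitIndices), List.map_ofFn, List.sum_ofFn]
  simp

/-- The embedding. -/
noncomputable def emb (n : ℕ) : Prd (orb n) →* Perm (Fin n) :=
  (Fintype.equivFinOfCardEq (card_dom n)).permCongrHom.toMonoidHom.comp
    ((Perm.sigmaCongrRightHom fun i => X (orb n i)).comp (MonoidHom.piMap fun i => (W (orb n i)).subtype))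

theorem emb_injective (n : ℕ) : Function.Injective (emb n) := by
  refine (Fintype.equivFinOfCardEq (card_dom n)).permCongrHom.injective.comp
    ((Perm.sigmaCongrRightHom_injective (β := fun i => X (orb n i))).comp fun x y h => funext fun i => Subtype.ext ?_)
  exact congrFun h i

theorem sign_emb (n : ℕ) (x : Prd (orb n)) : Perm.sign (emb n x) = eps (orb n) x := by
  suffices h : Perm.sign.comp (emb n) = eps (orb n) from DFunLike.congr_fun h x
  refine MonoidHom.pi_ext fun i g => ?_
  rw [eps_mulSingle]
  show Perm.sign ((Fintype.equivFinOfCardEq (card_dom n)).permCongr _) = _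
  rw [Perm.sign_permCongr, ← Perm.sign_extendDomain (g : Perm (X (orb n i))) (Equiv.sigmaSubtype (β := fun i => X (orb n i)) i).symm]
  congr 1
  refine Equiv.ext fun y => ?_
  obtain ⟨j, y⟩ := y
  by_cases hj : j = i
  · subst hj
    rw [Perm.extendDomain_apply_subtype _ _ (b := (⟨j, y⟩ : Σ j, X (orb n j))) (show (⟨j, y⟩ : Σ j, X (orb n j)).1 = j from rfl)]
    simp [Perm.sigmaCongrRightHom, Equiv.sigmaSubtype]
  · rw [Perm.extendDomain_apply_not_subtype _ _ (b := (⟨j, y⟩ : Σ j, X (orb n j))) (show ¬ (⟨j, y⟩ : Σ j, X (orb n j)).1 = i from hj)]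
    simp [Perm.sigmaCongrRightHom, Pi.mulSingle_eq_of_ne hj]

/-- Restricted to the even part. -/
noncomputable def embEven (n : ℕ) : Even' (orb n) →* alternatingGroup (Fin n) :=
  ((emb n).comp (Even' (orb n)).subtype).codRestrict _ fun x => by
    rw [Perm.mem_alternatingGroup]
    show Perm.sign (emb n x.1) = 1
    rw [sign_emb]
    exact mem_even.1 x.2

theorem card_embEven {n : ℕ} (hn : 2 ≤ n) :
    Nat.card (embEven n).range = 2 ^ (Nat.card (alternatingGroup (Fin n))).factorization 2 := by
  haveI : Fact (Nat.Prime 2) := ⟨Nat.prime_two⟩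
  have hinj : Function.Injective (embEven n) := fun x y h =>
    Subtype.ext (emb_injective n (congrArg Subtype.val h))
  rw [← Nat.card_congr (MonoidHom.ofInjective hinj).toEquiv]
  obtain ⟨i, hi⟩ : ∃ i, 1 ≤ orb n i := by
    obtain ⟨k, hk, hkb⟩ : ∃ k, 1 ≤ k ∧ n.testBit k = true := by
      obtain ⟨j, hj, -⟩ := Nat.exists_testBit_of_ne_zero (show n / 2 ≠ 0 by omega) |> fun ⟨j, hj⟩ => (⟨j, hj, trivial⟩ : ∃ j, (n / 2).testBit j = true ∧ True)
      exact ⟨j + 1, by omega, by rw [Nat.testBit_add_one]; exact hj⟩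
    obtain ⟨i, hi⟩ := exists_orb hkb
    exact ⟨i, by omega⟩
  obtain ⟨o, ho, hos⟩ := exists_odd hi
  have hidx : (Even' (orb n)).index = 2 := by
    rw [Subgroup.index_ker, MonoidHom.range_eq_top.2 ?_, Subgroup.card_top, Nat.card_eq_fintype_card, Fintype.card_units_int]
    intro u
    rcases Int.units_eq_one_or u with rfl | rfl
    · exact ⟨1, map_one _⟩
    · exact ⟨Pi.mulSingle i ⟨o, ho⟩, by rw [eps_mulSingle]; exact hos⟩
  have h1 := (Even' (orb n)).card_mul_index
  rw [hidx, Nat.card_pi, Finset.prod_congr rfl (fun l _ => card_W (orb n l)), Finset.prod_pow_eq_pow_sum] at h1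
  have hsum : ∑ l, (2 ^ orb n l - 1) = padicValNat 2 n.factorial := by
    rw [padic_factorial, ← List.sum_ofFn]
    congr 1
    conv_rhs => rw [← List.ofFn_get (l := n.bitIndices), List.map_ofFn]
    rfl
  rw [hsum] at h1
  have hA : 2 * Nat.card (alternatingGroup (Fin n)) = n.factorial := by
    haveI : Nontrivial (Fin n) := Fin.nontrivial_iff_two_le.2 hn
    rw [two_mul_nat_card_alternatingGroup, Nat.card_perm, Nat.card_fin]
  have hval : padicValNat 2 n.factorial = 1 + (Nat.card (alternatingGroup (Fin n))).factorization 2 := by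
    rw [Nat.factorization_def _ Nat.prime_two, ← hA, padicValNat.mul (by norm_num) Nat.card_pos.ne', padicValNat.self (by norm_num)]
  rw [hval, pow_add, pow_one, mul_comm] at h1
  exact Nat.eq_of_mul_eq_mul_left (by norm_num : 0 < 2) h1

/-- Decomposability is that of the model. -/
theorem dec_sylow {n : ℕ} (hn : 2 ≤ n) (P : Sylow 2 (alternatingGroup (Fin n))) :
    Dec (P : Subgroup (alternatingGroup (Fin n))) ↔ Dec (Even' (orb n)) := by
  haveI : Fact (Nat.Prime 2) := ⟨Nat.prime_two⟩
  obtain ⟨g, hg⟩ := MulAction.exists_smul_eq (alternatingGroup (Fin n)) (Sylow.ofCard (embEven n).range (card_embEven hn)) P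
  have hP : (P : Subgroup (alternatingGroup (Fin n))) =
      (⊤ : Subgroup (Even' (orb n))).map ((MulAut.conj g).toMonoidHom.comp (embEven n)) := by
    rw [← hg, Sylow.coe_subgroup_smul, Sylow.coe_ofCard, ← Subgroup.map_map, ← MonoidHom.range_eq_map]
    rfl
  have hinj : Function.Injective ((MulAut.conj g).toMonoidHom.comp (embEven n)) :=
    (MulAut.conj g).injective.comp fun x y h => Subtype.ext (emb_injective n (congrArg Subtype.val h))
  rw [hP, dec_map _ hinj]
  conv_rhs => rw [← Subgroup.range_subtype (Even' (orb n)), MonoidHom.range_eq_map]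
  rw [dec_map _ (Even' (orb n)).subtype_injective]

end Cfsg.Lib.SymSylow.EvenTwo
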