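import Cfsg.Agent.SymSylow.EvenTwo.Tree
import Cfsg.Agent.Coprime.SolvableBasics

/-!
When the even part of a product of iterated wreath products is directly decomposable.
-/

set_option autoImplicit false
set_option linter.style.haveILetI false
set_option maxHeartbeats 1000000

namespace Cfsg.Lib.SymSylow.EvenTwo

open Equiv

/-- `S` is the product of two nontrivial elementwise commuting subgroups meeting trivially. -/
def Dec {G : Type*} [Group G] (S : Subgroup G) : Prop :=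
  ∃ S₁ S₂ : Subgroup G, S₁ ≠ ⊥ ∧ S₂ ≠ ⊥ ∧
    (S₁ ≤ S ∧ S₂ ≤ S ∧ (∀ a ∈ S₁, ∀ b ∈ S₂, a * b = b * a) ∧ S₁ ⊓ S₂ = ⊥ ∧ S₁ ⊔ S₂ = S)

theorem dec_map {G H : Type*} [Group G] [Group H] (f : G →* H) (hf : Function.Injective f) (S : Subgroup G) :
    Dec (S.map f) ↔ Dec S := by
  constructor
  · rintro ⟨A, B, hA, hB, hAS, hBS, hc, hi, hs⟩
    have hAr : A ≤ f.range := hAS.trans (Subgroup.map_le_range f S)
    have hBr : B ≤ f.range := hBS.trans (Subgroup.map_le_range f S)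
    have eA := Subgroup.map_comap_eq_self hAr
    have eB := Subgroup.map_comap_eq_self hBr
    refine ⟨A.comap f, B.comap f, fun h => hA ?_, fun h => hB ?_, ?_, ?_, ?_, ?_, ?_⟩
    · rw [← eA, h, Subgroup.map_bot]
    · rw [← eB, h, Subgroup.map_bot]
    · exact (Subgroup.map_le_map_iff_of_injective hf).1 (eA.le.trans hAS)
    · exact (Subgroup.map_le_map_iff_of_injective hf).1 (eB.le.trans hBS)
    · intro a ha b hb
      exact hf (by rw [map_mul, map_mul]; exact hc _ ha _ hb)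
    · refine Subgroup.map_injective hf ?_
      rw [Subgroup.map_inf _ _ _ hf, eA, eB, hi, Subgroup.map_bot]
    · refine Subgroup.map_injective hf ?_
      rw [Subgroup.map_sup, eA, eB, hs]
  · rintro ⟨A, B, hA, hB, hAS, hBS, hc, hi, hs⟩
    refine ⟨A.map f, B.map f, fun h => hA ?_, fun h => hB ?_, Subgroup.map_mono hAS, Subgroup.map_mono hBS, ?_, ?_, ?_⟩
    · exact Subgroup.map_injective hf (h.trans (Subgroup.map_bot f).symm)
    · exact Subgroup.map_injective hf (h.trans (Subgroup.map_bot f).symm)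
    · rintro _ ⟨a, ha, rfl⟩ _ ⟨b, hb, rfl⟩
      rw [← map_mul, ← map_mul, hc a ha b hb]
    · rw [← Subgroup.map_inf _ _ _ hf, hi, Subgroup.map_bot]
    · rw [← Subgroup.map_sup, hs]

theorem exists_mul_of_dec {G : Type*} [Group G] {A B S : Subgroup G} (hc : ∀ a ∈ A, ∀ b ∈ B, a * b = b * a)
    (hs : A ⊔ B = S) {g : G} (hg : g ∈ S) : ∃ a ∈ A, ∃ b ∈ B, g = a * b := by
  let K : Subgroup G :=
    { carrier := {g | ∃ a ∈ A, ∃ b ∈ B, g = a * b}
      one_mem' := ⟨1, one_mem _, 1, one_mem _, (one_mul 1).symm⟩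
      mul_mem' := by
        rintro _ _ ⟨a, ha, b, hb, rfl⟩ ⟨a', ha', b', hb', rfl⟩
        refine ⟨_, mul_mem ha ha', _, mul_mem hb hb', ?_⟩
        calc a * b * (a' * b') = a * (b * a') * b' := by group
          _ = a * a' * (b * b') := by rw [← hc a' ha' b hb]; group
      inv_mem' := by
        rintro _ ⟨a, ha, b, hb, rfl⟩
        exact ⟨_, inv_mem ha, _, inv_mem hb, by rw [hc a ha b hb, mul_inv_rev]⟩ }
  have hA : A ≤ K := fun a ha => ⟨a, ha, 1, one_mem _, (mul_one a).symm⟩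
  have hB : B ≤ K := fun b hb => ⟨1, one_mem _, b, hb, (one_mul b).symm⟩
  exact sup_le hA hB (hs.ge hg)

/-- Central in `W k`. -/
def Cen (k : ℕ) (g : Perm (X k)) : Prop := g ∈ W k ∧ ∀ h ∈ W k, g * h = h * g

theorem W_zero {g : Perm (X 0)} (hg : g ∈ W 0) : g = 1 := Subgroup.mem_bot.1 hg

theorem abel_small {k : ℕ} (hk : k ≤ 1) {g h : Perm (X k)} (hg : g ∈ W k) (hh : h ∈ W k) : g * h = h * g := by
  interval_cases k
  · rw [W_zero hg, W_zero hh]
  · rcases W_one_cases hg with rfl | rfl <;> rcases W_one_cases hh with rfl | rfl <;> simp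

theorem sign_small {k : ℕ} (hk : k ≤ 1) {g : Perm (X k)} (hg : g ∈ W k) (hs : Perm.sign g = 1) : g = 1 := by
  interval_cases k
  · exact W_zero hg
  · rcases W_one_cases hg with rfl | rfl
    · rfl
    · rw [sign_sw_zero] at hs
      exact absurd hs (by decide)

theorem W_of_zero {k : ℕ} (hk : k = 0) {g : Perm (X k)} (hg : g ∈ W k) : g = 1 := by
  subst hk; exact W_zero hg

/-- The even part of `W 2` is a four-group. -/
theorem four_shape {k : ℕ} (hk : k = 2) : ∃ a z : W k, Perm.sign (a : Perm (X k)) = 1 ∧ Perm.sign (z : Perm (X k)) = 1 ∧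
    a ≠ 1 ∧ z ≠ 1 ∧ a ≠ z ∧ a * z = z * a ∧ a * a = 1 ∧ z * z = 1 ∧
    ∀ g : W k, Perm.sign (g : Perm (X k)) = 1 → g = 1 ∨ g = a ∨ g = z ∨ g = z * a := by
  subst hk
  obtain ⟨hz, hz1, hzz⟩ := zz_spec 1
  have h11 : dd ((1 : Perm (X 1)), (1 : Perm (X 1))) = 1 := map_one dd
  refine ⟨⟨sw, sw_mem⟩, ⟨zz 1, hz⟩, sign_sw_succ 0, sign_zz_succ 0, fun h => ?_, fun h => hz1 (congrArg Subtype.val h),
    fun h => ?_, Subtype.ext (zz_central 1 sw sw_mem).symm, Subtype.ext sw_mul_sw, Subtype.ext hzz, ?_⟩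
  · exact dd_ne_dd_sw (k := 1) 1 1 1 1 (by rw [h11, one_mul]; exact (congrArg Subtype.val h).symm)
  · exact dd_ne_dd_sw (k := 1) (zz 0) (zz 0) 1 1 (by rw [h11, one_mul]; exact (congrArg Subtype.val h).symm)
  · rintro ⟨g, hg⟩ hgs
    obtain ⟨p, hp, q, hq, hgd⟩ := mem_W.1 hg
    have hpq : Perm.sign p * Perm.sign q = 1 := by
      rcases hgd with rfl | rfl
      · rw [← sign_dd]; exact hgs
      · simpa [sign_sw_succ, sign_dd] using hgs
    rcases W_one_cases hp with rfl | rfl <;> rcases W_one_cases hq with rfl | rfl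
    · rcases hgd with rfl | rfl
      · exact Or.inl (Subtype.ext h11)
      · exact Or.inr (Or.inl (Subtype.ext (show dd ((1 : Perm (X 1)), (1 : Perm (X 1))) * sw = sw by rw [h11, one_mul])))
    · rw [map_one, sign_sw_zero] at hpq; exact absurd hpq (by decide)
    · rw [map_one, sign_sw_zero] at hpq; exact absurd hpq (by decide)
    · rcases hgd with rfl | rfl
      · exact Or.inr (Or.inr (Or.inl rfl))
      · exact Or.inr (Or.inr (Or.inr rfl))

theorem exists_odd {k : ℕ} (hk : 1 ≤ k) : ∃ o ∈ W k, Perm.sign o = -1 := by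
  obtain ⟨m, rfl⟩ : ∃ m, k = m + 1 := ⟨k - 1, by omega⟩
  exact ⟨oo m, oo_spec m⟩

theorem cen_sign {k : ℕ} (hk : 2 ≤ k) {g : Perm (X k)} (hg : Cen k g) : Perm.sign g = 1 := by
  obtain ⟨m, rfl⟩ : ∃ m, k = m + 2 := ⟨k - 2, by omega⟩
  rcases center_W (m + 1) g hg.1 hg.2 with rfl | rfl
  · exact map_one _
  · exact sign_zz_succ m

theorem cen_unique {k : ℕ} {g h : Perm (X k)} (hg : Cen k g) (hh : Cen k h) (hg1 : g ≠ 1) (hh1 : h ≠ 1) : g = h := by
  rcases k with _ | m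
  · exact absurd (W_zero hg.1) hg1
  · rw [(center_W m g hg.1 hg.2).resolve_left hg1, (center_W m h hh.1 hh.2).resolve_left hh1]

/-- The central involution is a commutator. -/
theorem zz_commutator {k : ℕ} (hk : 2 ≤ k) : ∃ a ∈ W k, ∃ b ∈ W k, Perm.sign a = 1 ∧ (3 ≤ k → Perm.sign b = 1) ∧
    Cen k (a * b * a⁻¹ * b⁻¹) ∧ a * b * a⁻¹ * b⁻¹ ≠ 1 := by
  obtain ⟨m, rfl⟩ : ∃ m, k = m + 2 := ⟨k - 2, by omega⟩
  obtain ⟨hz, hz1, hzz⟩ := zz_spec m
  refine ⟨sw, sw_mem, dd (zz m, 1), dd_mem hz (one_mem _), sign_sw_succ m, fun h3 => ?_, ?_⟩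
  · obtain ⟨j, rfl⟩ : ∃ j, m = j + 1 := ⟨m - 1, by omega⟩
    rw [sign_dd, sign_zz_succ, map_one, one_mul]
  · have e : (sw : Perm (X (m + 2))) * dd (zz m, 1) * sw⁻¹ * (dd (zz m, 1))⁻¹ = zz (m + 1) := by
      rw [sw_dd, mul_inv_cancel_right, ← map_inv, ← map_mul, Prod.inv_mk, inv_eq_of_mul_eq_one_right hzz, inv_one,
        Prod.mk_mul_mk, one_mul, mul_one]
      rfl
    rw [e]
    exact ⟨⟨(zz_spec (m + 1)).1, zz_central (m + 1)⟩, (zz_spec (m + 1)).2.1⟩

variable {ι : Type} [Fintype ι] [DecidableEq ι] (kk : ι → ℕ)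

/-- The product over the orbits. -/
abbrev Prd : Type := ∀ i, W (kk i)

/-- The sign. -/
def eps : Prd kk →* ℤˣ where
  toFun x := ∏ i, Perm.sign (x i : Perm (X (kk i)))
  map_one' := by simp
  map_mul' x y := by simp [Finset.prod_mul_distrib]

/-- The even part. -/
abbrev Even' : Subgroup (Prd kk) := (eps kk).ker

variable {kk}

theorem eps_apply (x : Prd kk) : eps kk x = ∏ i, Perm.sign (x i : Perm (X (kk i))) := rfl

theorem eps_mulSingle (i : ι) (g : W (kk i)) : eps kk (Pi.mulSingle i g) = Perm.sign (g : Perm (X (kk i))) := by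
  rw [eps_apply, Finset.prod_eq_single i]
  · rw [Pi.mulSingle_eq_same]
  · intro j _ hj; rw [Pi.mulSingle_eq_of_ne hj]; simp
  · exact fun h => absurd (Finset.mem_univ i) h

theorem mem_even {x : Prd kk} : x ∈ Even' kk ↔ eps kk x = 1 := Iff.rfl

theorem exists_even {i j : ι} (hij : i ≠ j) (hj : 1 ≤ kk j) (g : W (kk i)) :
    ∃ x ∈ Even' kk, x i = g ∧ ∀ l, l ≠ i → l ≠ j → x l = 1 := by
  rcases Int.units_eq_one_or (Perm.sign (g : Perm (X (kk i)))) with h | h
  · exact ⟨Pi.mulSingle i g, by rw [mem_even, eps_mulSingle, h], by rw [Pi.mulSingle_eq_same],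
      fun l hl _ => by rw [Pi.mulSingle_eq_of_ne hl]⟩
  · obtain ⟨o, ho, hos⟩ := exists_odd hj
    refine ⟨Pi.mulSingle i g * Pi.mulSingle j ⟨o, ho⟩, ?_, ?_, fun l hli hlj => ?_⟩
    · rw [mem_even, map_mul, eps_mulSingle, eps_mulSingle, h, show ((⟨o, ho⟩ : W (kk j)) : Perm (X (kk j))) = o from rfl, hos]
      decide
    · rw [Pi.mul_apply, Pi.mulSingle_eq_same, Pi.mulSingle_eq_of_ne hij, mul_one]
    · rw [Pi.mul_apply, Pi.mulSingle_eq_of_ne hli, Pi.mulSingle_eq_of_ne hlj, mul_one]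

theorem dec_of_small (hinj : Function.Injective kk) {i₁ i j : ι} (h1 : kk i₁ = 1) (hi : 2 ≤ kk i) (hj : 2 ≤ kk j)
    (hij : i ≠ j) : Dec (Even' kk) := by
  classical
  have hi1 : i ≠ i₁ := fun e => by rw [e, h1] at hi; omega
  have hj1 : j ≠ i₁ := fun e => by rw [e, h1] at hj; omega
  let A : Subgroup (Prd kk) :=
    { carrier := {x | x ∈ Even' kk ∧ ∀ l, l ≠ i → l ≠ i₁ → x l = 1}
      one_mem' := ⟨one_mem _, fun l _ _ => rfl⟩
      mul_mem' := fun {a b} ha hb => ⟨mul_mem ha.1 hb.1, fun l h h' => by rw [Pi.mul_apply, ha.2 l h h', hb.2 l h h', mul_one]⟩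
      inv_mem' := fun {a} ha => ⟨inv_mem ha.1, fun l h h' => by rw [Pi.inv_apply, ha.2 l h h', inv_one]⟩ }
  let B : Subgroup (Prd kk) :=
    { carrier := {x | x ∈ Even' kk ∧ x i = 1}
      one_mem' := ⟨one_mem _, rfl⟩
      mul_mem' := fun {a b} ha hb => ⟨mul_mem ha.1 hb.1, by rw [Pi.mul_apply, ha.2, hb.2, mul_one]⟩
      inv_mem' := fun {a} ha => ⟨inv_mem ha.1, by rw [Pi.inv_apply, ha.2, inv_one]⟩ }
  obtain ⟨o, ho, hos⟩ := exists_odd (show 1 ≤ kk i by omega)
  obtain ⟨o', ho', hos'⟩ := exists_odd (show 1 ≤ kk j by omega)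
  obtain ⟨x, hx, hxi, hxl⟩ := exists_even hi1 (by omega) (⟨o, ho⟩ : W (kk i))
  obtain ⟨y, hy, hyj, hyl⟩ := exists_even hj1 (by omega) (⟨o', ho'⟩ : W (kk j))
  have hone : ∀ {l : ι} {g : W (kk l)}, Perm.sign (g : Perm (X (kk l))) = -1 → g ≠ 1 := fun hg e => by
    rw [e] at hg; simp at hg
  refine ⟨A, B, fun h => ?_, fun h => ?_, fun _ h => h.1, fun _ h => h.1, ?_, ?_, ?_⟩
  · have : x = 1 := by rw [← Subgroup.mem_bot, ← h]; exact ⟨hx, hxl⟩
    exact hone (g := ⟨o, ho⟩) hos (by rw [← hxi, this]; rfl)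
  · have : y = 1 := by rw [← Subgroup.mem_bot, ← h]; exact ⟨hy, hyl i hij hi1⟩
    exact hone (g := ⟨o', ho'⟩) hos' (by rw [← hyj, this]; rfl)
  · intro a ha b hb
    funext l
    by_cases hl : l = i
    · subst hl; rw [Pi.mul_apply, Pi.mul_apply, hb.2, mul_one, one_mul]
    by_cases hl' : l = i₁
    · subst hl'; exact Subtype.ext (abel_small h1.le (a _).2 (b _).2)
    · rw [Pi.mul_apply, Pi.mul_apply, ha.2 l hl hl', mul_one, one_mul]
  · rw [eq_bot_iff]
    rintro z ⟨⟨hz, hzl⟩, -, hzi⟩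
    rw [Subgroup.mem_bot]
    have hz1 : z = Pi.mulSingle i₁ (z i₁) := by
      funext l
      by_cases hl' : l = i₁
      · subst hl'; rw [Pi.mulSingle_eq_same]
      · rw [Pi.mulSingle_eq_of_ne hl']
        by_cases hl : l = i
        · subst hl; exact hzi
        · exact hzl l hl hl'
    rw [hz1] at hz ⊢
    rw [mem_even, eps_mulSingle] at hz
    rw [show z i₁ = 1 from Subtype.ext (sign_small h1.le (z i₁).2 hz), Pi.mulSingle_one]
  · refine le_antisymm (sup_le (fun _ h => h.1) fun _ h => h.1) fun z hz => ?_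
    obtain ⟨a, ha, hai, hal⟩ := exists_even hi1 (by omega) (z i)
    have hb : a⁻¹ * z ∈ B := ⟨mul_mem (inv_mem ha) hz, by rw [Pi.mul_apply, Pi.inv_apply, hai, inv_mul_cancel]⟩
    have := mul_mem (Subgroup.mem_sup_left (S := A) (T := B) ⟨ha, hal⟩) (Subgroup.mem_sup_right (S := A) hb)
    rwa [mul_inv_cancel_left] at this

theorem four_group {i : ι} (hi : kk i = 2) (hothers : ∀ l, l ≠ i → kk l = 0) : Dec (Even' kk) := by
  classical
  have hone : ∀ (x : Prd kk) l, l ≠ i → x l = 1 := fun x l hl => Subtype.ext (W_of_zero (hothers l hl) (x l).2)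
  obtain ⟨a, z, hsa, hsz, ha1, hz1, haz, hcomm, haa, hzz, hform⟩ := four_shape hi
  have hx : ∀ x : Prd kk, x = Pi.mulSingle i (x i) := fun x => funext fun l => by
    by_cases hl : l = i
    · subst hl; rw [Pi.mulSingle_eq_same]
    · rw [Pi.mulSingle_eq_of_ne hl, hone x l hl]
  set u : Prd kk := Pi.mulSingle i a
  set v : Prd kk := Pi.mulSingle i z
  have hu : u ∈ Even' kk := by rw [mem_even, eps_mulSingle]; exact hsa
  have hv : v ∈ Even' kk := by rw [mem_even, eps_mulSingle]; exact hsz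
  have hu2 : u * u = 1 := by rw [← Pi.mulSingle_mul, haa, Pi.mulSingle_one]
  have hv2 : v * v = 1 := by rw [← Pi.mulSingle_mul, hzz, Pi.mulSingle_one]
  have hz2 : ∀ w : Prd kk, w * w = 1 → ∀ g ∈ Subgroup.zpowers w, g = 1 ∨ g = w := by
    rintro w hw _ ⟨n, rfl⟩
    rcases Int.even_or_odd n with ⟨k, rfl⟩ | ⟨k, rfl⟩
    · left
      show w ^ (k + k) = 1
      rw [zpow_add, ← (Commute.refl w).mul_zpow, hw, one_zpow]
    · right
      show w ^ (2 * k + 1) = w
      rw [zpow_add, zpow_one, two_mul, zpow_add, ← (Commute.refl w).mul_zpow, hw, one_zpow, one_mul]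
  have hu1 : u ≠ 1 := fun h => ha1 (by simpa [u] using congrFun h i)
  have hv1 : v ≠ 1 := fun h => hz1 (by simpa [v] using congrFun h i)
  have huv : u ≠ v := fun h => haz (by simpa [u, v] using congrFun h i)
  refine ⟨Subgroup.zpowers u, Subgroup.zpowers v, by rwa [Ne, Subgroup.zpowers_eq_bot], by rwa [Ne, Subgroup.zpowers_eq_bot],
    Subgroup.zpowers_le.2 hu, Subgroup.zpowers_le.2 hv, ?_, ?_, ?_⟩
  · intro g hg g' hg'
    rcases hz2 u hu2 g hg with rfl | rfl <;> rcases hz2 v hv2 g' hg' with rfl | rfl <;>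
      first | simp | (rw [← Pi.mulSingle_mul, ← Pi.mulSingle_mul, hcomm])
  · rw [eq_bot_iff]
    rintro g ⟨hg, hg'⟩
    rcases hz2 u hu2 g hg with rfl | rfl
    · exact one_mem _
    · rcases hz2 v hv2 _ hg' with h | h
      · exact absurd h hu1
      · exact absurd h huv
  · refine le_antisymm (sup_le (Subgroup.zpowers_le.2 hu) (Subgroup.zpowers_le.2 hv)) fun g hg => ?_
    have hs : Perm.sign (g i : Perm (X (kk i))) = 1 := by
      rw [← eps_mulSingle, ← hx g]; exact mem_even.1 hg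
    rw [hx g]
    rcases hform (g i) hs with h | h | h | h <;> rw [h]
    · rw [Pi.mulSingle_one]; exact one_mem _
    · exact Subgroup.mem_sup_left (Subgroup.mem_zpowers u)
    · exact Subgroup.mem_sup_right (Subgroup.mem_zpowers v)
    · rw [Pi.mulSingle_mul]
      exact mul_mem (Subgroup.mem_sup_right (Subgroup.mem_zpowers v)) (Subgroup.mem_sup_left (Subgroup.mem_zpowers u))

/-- The indecomposable cases. -/
theorem not_dec (hinj : Function.Injective kk) (h2 : ∃ i, 2 ≤ kk i)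
    (hno : ∀ i₁, kk i₁ = 1 → ∀ i j, 2 ≤ kk i → 2 ≤ kk j → i = j)
    (hfour : ¬ ∃ i, kk i = 2 ∧ ∀ l, l ≠ i → kk l = 0) : ¬ Dec (Even' kk) := by
  classical
  rintro ⟨S₁, S₂, h1ne, h2ne, h1le, h2le, hc, hi0, hs⟩
  by_cases hsingle : ∃ i, ∀ l, l ≠ i → kk l = 0
  · -- a single orbit: the centre has order two
    obtain ⟨i, hil⟩ := hsingle
    obtain ⟨i₀, hi₀⟩ := h2
    have hi : 2 ≤ kk i := by
      by_cases e : i₀ = i
      · exact e ▸ hi₀
      · rw [hil i₀ e] at hi₀; omega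
    have hi3 : 3 ≤ kk i := by
      by_contra h
      exact hfour ⟨i, by omega, hil⟩
    have hone : ∀ (x : Prd kk) l, l ≠ i → x l = 1 := fun x l hl => Subtype.ext (W_of_zero (hil l hl) (x l).2)
    set E := Even' kk
    have hP : IsPGroup 2 (Prd kk) := by
      refine IsPGroup.of_card (n := ∑ l, (2 ^ kk l - 1)) ?_
      rw [Nat.card_pi, ← Finset.prod_pow_eq_pow_sum]
      exact Finset.prod_congr rfl fun l _ => card_W _
    haveI : Group.IsNilpotent E := (hP.to_subgroup E).isNilpotent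
    have hmeet : ∀ S T : Subgroup (Prd kk), S ≤ E → S ≠ ⊥ → (∀ a ∈ S, ∀ b ∈ T, a * b = b * a) → S ⊔ T = E →
        ∃ z ∈ S, z ≠ 1 ∧ ∀ h ∈ E, z * h = h * z := by
      intro S T hSle hSne hST hsup
      haveI : (S.subgroupOf E).Normal := ⟨fun n hn g => by
        rw [Subgroup.mem_subgroupOf] at hn ⊢
        obtain ⟨a, ha, b, hb, hab⟩ := exists_mul_of_dec hST hsup g.2
        rw [Subgroup.coe_mul, Subgroup.coe_mul, InvMemClass.coe_inv, hab,
          show a * b * (n : Prd kk) * (a * b)⁻¹ = a * (b * n * b⁻¹) * a⁻¹ by group, ← hST _ hn b hb, mul_inv_cancel_right]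
        exact mul_mem (mul_mem ha hn) (inv_mem ha)⟩
      have hne : S.subgroupOf E ≠ ⊥ := fun h => hSne (by
        rw [← Subgroup.map_subgroupOf_eq_of_le hSle, h, Subgroup.map_bot])
      obtain ⟨z, hz, hz1⟩ := (Subgroup.ne_bot_iff_exists_ne_one).1 (Cfsg.Lib.Coprime.inf_center_ne_bot (S.subgroupOf E) hne) |> fun ⟨z, hz⟩ => (⟨z.1, z.2, fun e => hz (Subtype.ext e)⟩ : ∃ z, z ∈ S.subgroupOf E ⊓ Subgroup.center E ∧ z ≠ 1)
      exact ⟨z.1, hz.1, fun e => hz1 (Subtype.ext e), fun h hh =>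
        (congrArg Subtype.val (Subgroup.mem_center_iff.1 hz.2 ⟨h, hh⟩)).symm⟩
    obtain ⟨z₁, hz₁, hz₁1, hz₁c⟩ := hmeet S₁ S₂ h1le h1ne hc hs
    obtain ⟨z₂, hz₂, hz₂1, hz₂c⟩ := hmeet S₂ S₁ h2le h2ne (fun a ha b hb => (hc b hb a ha).symm) (by rw [sup_comm]; exact hs)
    have hcen : ∀ {k : ℕ}, 3 ≤ k → ∀ g ∈ W k, g ≠ 1 → ∀ g' ∈ W k, g' ≠ 1 →
        (∀ h ∈ W k, Perm.sign h = 1 → g * h = h * g) → (∀ h ∈ W k, Perm.sign h = 1 → g' * h = h * g') → g = g' := by
      intro k hk g hg hg1 g' hg' hg1' hgc hgc'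
      obtain ⟨m, rfl⟩ : ∃ m, k = m + 3 := ⟨k - 3, by omega⟩
      rw [(center_even m g hg hgc).resolve_left hg1, (center_even m g' hg' hgc').resolve_left hg1']
    have hred : ∀ z : Prd kk, (∀ h ∈ E, z * h = h * z) → z ≠ 1 → (z i : Perm (X (kk i))) ≠ 1 ∧
        ∀ h ∈ W (kk i), Perm.sign h = 1 → (z i : Perm (X (kk i))) * h = h * z i := by
      intro z hzc hz1
      refine ⟨fun e => hz1 (funext fun l => ?_), fun h hh hhs => ?_⟩
      · by_cases hl : l = i
        · subst hl; exact Subtype.ext e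
        · exact hone z l hl
      · have := congrFun (hzc (Pi.mulSingle i ⟨h, hh⟩) (by rw [mem_even, eps_mulSingle]; exact hhs)) i
        rw [Pi.mul_apply, Pi.mul_apply, Pi.mulSingle_eq_same] at this
        exact congrArg Subtype.val this
    obtain ⟨a1, a2⟩ := hred z₁ hz₁c hz₁1
    obtain ⟨b1, b2⟩ := hred z₂ hz₂c hz₂1
    have heq : z₁ = z₂ := funext fun l => by
      by_cases hl : l = i
      · subst hl; exact Subtype.ext (hcen hi3 _ (z₁ l).2 a1 _ (z₂ l).2 b1 a2 b2)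
      · rw [hone z₁ l hl, hone z₂ l hl]
    have : z₁ ∈ (⊥ : Subgroup (Prd kk)) := hi0 ▸ ⟨hz₁, heq ▸ hz₂⟩
    exact hz₁1 (Subgroup.mem_bot.1 this)
  -- all projections are surjective
  push Not at hsingle
  let ev : ∀ l, Prd kk →* Perm (X (kk l)) := fun l => (W (kk l)).subtype.comp (Pi.evalMonoidHom _ l)
  have hev : ∀ l (x : Prd kk), ev l x = (x l : Perm (X (kk l))) := fun l x => rfl
  have hsurj : ∀ l, ∀ g ∈ W (kk l), ∃ x ∈ Even' kk, ev l x = g := by
    intro l g hg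
    obtain ⟨j, hjl, hj⟩ := hsingle l
    obtain ⟨x, hx, hxl, -⟩ := exists_even (Ne.symm hjl) (by omega) (⟨g, hg⟩ : W (kk l))
    exact ⟨x, hx, by rw [hev, hxl]⟩
  have hcase : ∀ l, (∀ a ∈ S₁, Cen (kk l) (ev l a)) ∨ (∀ b ∈ S₂, Cen (kk l) (ev l b)) := by
    intro l
    have hW : ∀ x, ev l x ∈ W (kk l) := fun x => (x l).2
    rcases Nat.eq_zero_or_pos (kk l) with h0 | hpos
    · exact Or.inl fun a _ => ⟨hW a, fun h hh => abel_small (by omega) (hW a) hh⟩
    have key : ∀ {k : ℕ}, 1 ≤ k → ∀ A B : Subgroup (Perm (X k)), A ≤ W k → B ≤ W k →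
        (∀ a ∈ A, ∀ b ∈ B, a * b = b * a) → (∀ g ∈ W k, ∃ a ∈ A, ∃ b ∈ B, g = a * b) →
        (∀ a ∈ A, ∀ h ∈ W k, a * h = h * a) ∨ (∀ b ∈ B, ∀ h ∈ W k, b * h = h * b) := by
      intro k hk
      obtain ⟨m, rfl⟩ : ∃ m, k = m + 1 := ⟨k - 1, by omega⟩
      exact commuting_pair m
    rcases key hpos (S₁.map (ev l)) (S₂.map (ev l)) (by rintro _ ⟨x, -, rfl⟩; exact hW x) (by rintro _ ⟨x, -, rfl⟩; exact hW x)
      (by rintro _ ⟨a, ha, rfl⟩ _ ⟨b, hb, rfl⟩; rw [← map_mul, ← map_mul, hc a ha b hb])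
      (fun g hg => by
        obtain ⟨x, hx, rfl⟩ := hsurj l g hg
        obtain ⟨a, ha, b, hb, rfl⟩ := exists_mul_of_dec hc hs hx
        exact ⟨_, ⟨a, ha, rfl⟩, _, ⟨b, hb, rfl⟩, map_mul _ _ _⟩) with h | h
    · exact Or.inl fun a ha => ⟨hW a, h _ ⟨a, ha, rfl⟩⟩
    · exact Or.inr fun b hb => ⟨hW b, h _ ⟨b, hb, rfl⟩⟩
  -- one factor is central
  have hside : (∀ l, 2 ≤ kk l → ∀ a ∈ S₁, Cen (kk l) (ev l a)) ∨ (∀ l, 2 ≤ kk l → ∀ b ∈ S₂, Cen (kk l) (ev l b)) := by
    by_contra hcon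
    push Not at hcon
    obtain ⟨⟨i, hi, a₀, ha₀, hai⟩, ⟨j, hj, b₀, hb₀, hbj⟩⟩ := hcon
    have hij : i ≠ j := by
      rintro rfl
      rcases hcase i with h | h
      · exact hai (h a₀ ha₀)
      · exact hbj (h b₀ hb₀)
    have hno1 : ∀ l, kk l ≠ 1 := fun l hl => hij (hno l hl i j hi hj)
    -- an element odd exactly on two orbits
    obtain ⟨o, ho, hos⟩ := exists_odd (show 1 ≤ kk i by omega)
    obtain ⟨x, hx, hxi, hxl⟩ := exists_even hij (by omega) (⟨o, ho⟩ : W (kk i))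
    obtain ⟨a, ha, b, hb, hab⟩ := exists_mul_of_dec hc hs hx
    have hsx : ∀ l, Perm.sign (ev l x) = Perm.sign (ev l a) * Perm.sign (ev l b) := fun l => by rw [hab, map_mul, map_mul]
    have hsa : ∀ l, l ≠ i → Perm.sign (ev l a) = 1 := by
      intro l hli
      rcases Nat.lt_or_ge (kk l) 2 with h | h
      · have hk0 : kk l = 0 := by have := hno1 l; omega
        rw [hev, W_of_zero hk0 (a l).2, map_one]
      rcases hcase l with hl | hl
      · exact cen_sign h (hl a ha)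
      · have hlj : l ≠ j := by rintro rfl; exact hbj (hl b₀ hb₀)
        have := hsx l
        rw [cen_sign h (hl b hb), mul_one, hev, hxl l hli hlj] at this
        simpa using this.symm
    have hai' : Perm.sign (ev i a) = -1 := by
      have hl : ∀ b ∈ S₂, Cen (kk i) (ev i b) := (hcase i).resolve_left fun h => hai (h a₀ ha₀)
      have := hsx i
      rw [cen_sign hi (hl b hb), mul_one, hev, hxi] at this
      rw [← this]; exact hos
    have hae : eps kk a = 1 := mem_even.1 (h1le ha)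
    rw [eps_apply, Finset.prod_eq_single i (fun l _ hl => (hev l a) ▸ hsa l hl) (fun h => absurd (Finset.mem_univ i) h)] at hae
    rw [hev] at hai'
    rw [hai'] at hae
    exact absurd hae (by decide)
  -- the factor with central projections is trivial
  have finish : ∀ A B : Subgroup (Prd kk), A ≤ Even' kk → B ≤ Even' kk → B ≠ ⊥ → (∀ a ∈ A, ∀ b ∈ B, a * b = b * a) →
      A ⊓ B = ⊥ → A ⊔ B = Even' kk → (∀ l, 2 ≤ kk l → ∀ b ∈ B, Cen (kk l) (ev l b)) → False := by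
    intro A B hA hB hBne hAB hint hsup hcen
    have hBc : ∀ b ∈ B, ∀ y : Prd kk, b * y = y * b := by
      intro b hb y
      funext l
      refine Subtype.ext ?_
      rcases Nat.lt_or_ge (kk l) 2 with h | h
      · exact abel_small (by omega) (b l).2 (y l).2
      · exact (hcen l h b hb).2 _ (y l).2
    -- central involutions of single orbits lie in `A`
    have hzA : ∀ l, 2 ≤ kk l → ∃ g : W (kk l), g ≠ 1 ∧ Cen (kk l) g.1 ∧ Pi.mulSingle l g ∈ A := by
      intro l hl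
      obtain ⟨a, ha, b, hb, hsa, -, hzc, hz1⟩ := zz_commutator hl
      obtain ⟨j, hjl, hj⟩ := hsingle l
      obtain ⟨y, hy, hyl, hyo⟩ := exists_even (Ne.symm hjl) (by omega) (⟨b, hb⟩ : W (kk l))
      set x : Prd kk := Pi.mulSingle l ⟨a, ha⟩ with hx_def
      have hx : x ∈ Even' kk := by rw [mem_even, eps_mulSingle]; exact hsa
      obtain ⟨x1, hx1, x2, hx2, hxe⟩ := exists_mul_of_dec hAB hsup hx
      obtain ⟨y1, hy1, y2, hy2, hye⟩ := exists_mul_of_dec hAB hsup hy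
      refine ⟨⟨a * b * a⁻¹ * b⁻¹, hzc.1⟩, fun e => hz1 (congrArg Subtype.val e), hzc, ?_⟩
      have hcomm : Pi.mulSingle l (⟨a * b * a⁻¹ * b⁻¹, hzc.1⟩ : W (kk l)) = x * y * x⁻¹ * y⁻¹ := by
        funext m
        by_cases hm : m = l
        · subst hm
          rw [Pi.mulSingle_eq_same]
          simp only [Pi.mul_apply, Pi.inv_apply, hx_def, Pi.mulSingle_eq_same, hyl]
          exact Subtype.ext rfl
        · rw [Pi.mulSingle_eq_of_ne hm]
          simp only [Pi.mul_apply, Pi.inv_apply, hx_def, Pi.mulSingle_eq_of_ne hm, inv_one, one_mul, mul_one, mul_inv_cancel]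
      rw [hcomm, hxe, hye]
      have e : x1 * x2 * (y1 * y2) * (x1 * x2)⁻¹ * (y1 * y2)⁻¹ = x1 * y1 * x1⁻¹ * y1⁻¹ := by
        have c2 := hBc x2 hx2
        have d2 := hBc y2 hy2
        calc x1 * x2 * (y1 * y2) * (x1 * x2)⁻¹ * (y1 * y2)⁻¹
            = x1 * (x2 * (y1 * y2)) * x2⁻¹ * x1⁻¹ * y2⁻¹ * y1⁻¹ := by group
          _ = x1 * y1 * (y2 * x1⁻¹) * y2⁻¹ * y1⁻¹ := by rw [c2]; group
          _ = x1 * y1 * x1⁻¹ * y1⁻¹ := by rw [d2]; group
      rw [e]
      exact mul_mem (mul_mem (mul_mem hx1 hy1) (inv_mem hx1)) (inv_mem hy1)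
    refine hBne ((Subgroup.eq_bot_iff_forall _).2 fun b hb => ?_)
    have hb1 : ∀ l, kk l ≤ 1 → b l = 1 := by
      intro l hl
      by_cases hl0 : kk l = 0
      · exact Subtype.ext (W_of_zero hl0 (b l).2)
      refine Subtype.ext (sign_small hl (b l).2 ?_)
      have hs := mem_even.1 (hB hb)
      rw [eps_apply, Finset.prod_eq_single l] at hs
      · exact hs
      · intro m _ hm
        rcases Nat.lt_or_ge (kk m) 2 with h | h
        · have hm0 : kk m = 0 := by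
            rcases Nat.eq_zero_or_pos (kk l) with h0 | h0
            · exfalso; exact hl0 h0
            · by_contra hne
              exact hm (hinj (by omega))
          rw [W_of_zero hm0 (b m).2, map_one]
        · exact cen_sign h (hcen m h b hb)
      · exact fun h => absurd (Finset.mem_univ l) h
    have hmem : Finset.univ.noncommProd (fun l => Pi.mulSingle l (b l)) (fun l _ m _ hlm => Pi.mulSingle_commute hlm _ _) ∈ A := by
      refine Subgroup.noncommProd_mem A _ fun l _ => ?_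
      rcases Nat.lt_or_ge (kk l) 2 with h | h
      · rw [hb1 l (by omega), Pi.mulSingle_one]; exact one_mem _
      · obtain ⟨g, hg1, hgc, hgA⟩ := hzA l h
        rcases eq_or_ne (b l) 1 with e | e
        · rw [e, Pi.mulSingle_one]; exact one_mem _
        · rw [show b l = g from Subtype.ext (cen_unique (hcen l h b hb) hgc (fun e' => e (Subtype.ext e')) (fun e' => hg1 (Subtype.ext e')))]
          exact hgA
    rw [Finset.noncommProd_mulSingle] at hmem
    exact Subgroup.mem_bot.1 (hint ▸ (⟨hmem, hb⟩ : b ∈ A ⊓ B))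
  rcases hside with h | h
  · exact finish S₂ S₁ h2le h1le h1ne (fun a ha b hb => (hc b hb a ha).symm) (by rw [inf_comm]; exact hi0) (by rw [sup_comm]; exact hs) h
  · exact finish S₁ S₂ h1le h2le h2ne hc hi0 hs h

end Cfsg.Lib.SymSylow.EvenTwo
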