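import Mathlib

/-!
The iterated wreath products of groups of order two, as permutations of binary strings.
-/

set_option autoImplicit false
set_option linter.style.haveILetI false

namespace Cfsg.Lib.SymSylow.EvenTwo

open Equiv

/-- Binary strings. -/
abbrev X (k : ℕ) : Type := Fin k → Bool

variable {k : ℕ}

/-- Acting on the two halves. -/
def dd : Perm (X k) × Perm (X k) →* Perm (X (k + 1)) where
  toFun x := (Fin.consEquiv fun _ : Fin (k + 1) => Bool).permCongr
    (Equiv.prodCongrRight fun c : Bool => if c then x.2 else x.1)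
  map_one' := by
    refine Equiv.ext fun v => ?_
    simp [Equiv.permCongr_apply, Fin.consEquiv]
  map_mul' x y := by
    refine Equiv.ext fun v => ?_
    simp only [Perm.coe_mul, Function.comp_apply, Equiv.permCongr_apply, Equiv.symm_apply_apply,
      Prod.fst_mul, Prod.snd_mul]
    obtain ⟨c, w⟩ := (Fin.consEquiv fun _ : Fin (k + 1) => Bool).symm v
    cases c <;> rfl

/-- Exchanging the two halves. -/
def sw : Perm (X (k + 1)) :=
  (Fin.consEquiv fun _ : Fin (k + 1) => Bool).permCongr (Equiv.prodCongrLeft fun _ : X k => Equiv.swap false true)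

theorem dd_apply (p q : Perm (X k)) (c : Bool) (v : X k) :
    dd (p, q) (Fin.cons c v) = Fin.cons c (if c then q v else p v) := by
  cases c <;> simp [dd, Equiv.permCongr_apply, Fin.consEquiv]

theorem sw_apply (c : Bool) (v : X k) : (sw : Perm (X (k + 1))) (Fin.cons c v) = Fin.cons (!c) v := by
  cases c <;> simp [sw, Equiv.permCongr_apply, Fin.consEquiv]

theorem sw_mul_sw : (sw : Perm (X (k + 1))) * sw = 1 := by
  refine Equiv.ext fun v => ?_
  rw [← Fin.cons_self_tail v, Perm.mul_apply, sw_apply, sw_apply, Bool.not_not, Perm.one_apply]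

theorem sw_dd (p q : Perm (X k)) : sw * dd (p, q) = dd (q, p) * sw := by
  refine Equiv.ext fun v => ?_
  rw [← Fin.cons_self_tail v, Perm.mul_apply, Perm.mul_apply, dd_apply, sw_apply, sw_apply, dd_apply]
  cases v 0 <;> rfl

theorem dd_injective : Function.Injective (dd : Perm (X k) × Perm (X k) →* Perm (X (k + 1))) := by
  rintro ⟨p, q⟩ ⟨p', q'⟩ h
  refine Prod.ext (Equiv.ext fun v => ?_) (Equiv.ext fun v => ?_)
  · have := congrArg (fun g : Perm (X (k + 1)) => g (Fin.cons false v)) h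
    simpa [dd_apply] using this
  · have := congrArg (fun g : Perm (X (k + 1)) => g (Fin.cons true v)) h
    simpa [dd_apply] using this

theorem dd_ne_dd_sw (p q p' q' : Perm (X k)) : dd (p, q) ≠ dd (p', q') * sw := by
  intro h
  have := congrArg (fun g : Perm (X (k + 1)) => g (Fin.cons false fun _ => false) 0) h
  simp [dd_apply, sw_apply] at this

theorem sign_dd (p q : Perm (X k)) : Perm.sign (dd (p, q)) = Perm.sign p * Perm.sign q := by
  show Perm.sign (Equiv.permCongr _ _) = _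
  rw [Perm.sign_permCongr, Perm.sign_prodCongrRight, Fintype.prod_bool]
  simp [mul_comm]

theorem sign_sw : Perm.sign (sw : Perm (X (k + 1))) = (-1) ^ 2 ^ k := by
  show Perm.sign (Equiv.permCongr _ _) = _
  rw [Perm.sign_permCongr, Perm.sign_prodCongrLeft, Finset.prod_const, Perm.sign_swap (by decide), Finset.card_univ]
  simp

/-- The wreath product. -/
def W : (k : ℕ) → Subgroup (Perm (X k))
  | 0 => ⊥
  | k + 1 =>
    { carrier := {g | ∃ p ∈ W k, ∃ q ∈ W k, g = dd (p, q) ∨ g = dd (p, q) * sw}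
      one_mem' := ⟨1, one_mem _, 1, one_mem _, Or.inl (map_one dd).symm⟩
      mul_mem' := by
        rintro _ _ ⟨p, hp, q, hq, rfl | rfl⟩ ⟨p', hp', q', hq', rfl | rfl⟩
        · exact ⟨_, mul_mem hp hp', _, mul_mem hq hq', Or.inl (map_mul dd _ _).symm⟩
        · exact ⟨_, mul_mem hp hp', _, mul_mem hq hq', Or.inr (by rw [← mul_assoc, ← map_mul]; rfl)⟩
        · exact ⟨_, mul_mem hp hq', _, mul_mem hq hp', Or.inr (by rw [mul_assoc, sw_dd, ← mul_assoc, ← map_mul]; rfl)⟩
        · exact ⟨_, mul_mem hp hq', _, mul_mem hq hp', Or.inl (by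
            rw [mul_assoc, ← mul_assoc sw, sw_dd, mul_assoc, sw_mul_sw, mul_one, ← map_mul]; rfl)⟩
      inv_mem' := by
        rintro _ ⟨p, hp, q, hq, rfl | rfl⟩
        · exact ⟨_, inv_mem hp, _, inv_mem hq, Or.inl (map_inv dd _).symm⟩
        · refine ⟨_, inv_mem hq, _, inv_mem hp, Or.inr ?_⟩
          rw [mul_inv_rev, ← map_inv, inv_eq_of_mul_eq_one_right sw_mul_sw, Prod.inv_mk, sw_dd] }

theorem mem_W {g : Perm (X (k + 1))} :
    g ∈ W (k + 1) ↔ ∃ p ∈ W k, ∃ q ∈ W k, g = dd (p, q) ∨ g = dd (p, q) * sw := Iff.rfl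

theorem dd_mem {p q : Perm (X k)} (hp : p ∈ W k) (hq : q ∈ W k) : dd (p, q) ∈ W (k + 1) :=
  mem_W.2 ⟨p, hp, q, hq, Or.inl rfl⟩

theorem sw_mem : (sw : Perm (X (k + 1))) ∈ W (k + 1) :=
  mem_W.2 ⟨1, one_mem _, 1, one_mem _, Or.inr (by rw [show ((1 : Perm (X k)), (1 : Perm (X k))) = 1 from rfl, map_one, one_mul])⟩

theorem card_W : ∀ k, Nat.card (W k) = 2 ^ (2 ^ k - 1)
  | 0 => by simp [W]
  | k + 1 => by
    let f : W k × W k × Bool → W (k + 1) := fun x =>
      ⟨dd (x.1.1, x.2.1.1) * (if x.2.2 then sw else 1), mul_mem (dd_mem x.1.2 x.2.1.2) (by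
        split_ifs
        · exact sw_mem
        · exact one_mem _)⟩
    have hf : Function.Bijective f := by
      refine ⟨?_, ?_⟩
      · rintro ⟨p, q, c⟩ ⟨p', q', c'⟩ h
        have h' : dd (p.1, q.1) * (if c then sw else 1) = dd (p'.1, q'.1) * (if c' then sw else 1) := congrArg Subtype.val h
        cases c <;> cases c' <;> simp only [if_false, if_true, mul_one, Bool.false_eq_true] at h'
        · obtain ⟨h1, h2⟩ := Prod.mk.inj (dd_injective h')
          rw [Subtype.ext h1, Subtype.ext h2]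
        · exact absurd h' (dd_ne_dd_sw _ _ _ _)
        · exact absurd h'.symm (dd_ne_dd_sw _ _ _ _)
        · obtain ⟨h1, h2⟩ := Prod.mk.inj (dd_injective (mul_right_cancel h'))
          rw [Subtype.ext h1, Subtype.ext h2]
      · rintro ⟨g, p, hp, q, hq, rfl | rfl⟩
        · exact ⟨(⟨p, hp⟩, ⟨q, hq⟩, false), Subtype.ext (by simp [f])⟩
        · exact ⟨(⟨p, hp⟩, ⟨q, hq⟩, true), Subtype.ext (by simp [f])⟩
    rw [← Nat.card_congr (Equiv.ofBijective f hf), Nat.card_prod, Nat.card_prod, card_W k, Nat.card_eq_fintype_card,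
      Fintype.card_bool, ← pow_succ, ← pow_add]
    congr 1
    have := Nat.one_le_two_pow (n := k)
    rw [pow_succ]
    omega

/-- The central involution. -/
def zz : (k : ℕ) → Perm (X (k + 1))
  | 0 => sw
  | k + 1 => dd (zz k, zz k)

/-- An odd element. -/
def oo : (k : ℕ) → Perm (X (k + 1))
  | 0 => sw
  | k + 1 => dd (oo k, 1)

theorem sign_sw_zero : Perm.sign (sw : Perm (X 1)) = -1 := by rw [sign_sw]; simp

theorem oo_spec : ∀ k, oo k ∈ W (k + 1) ∧ Perm.sign (oo k) = -1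
  | 0 => ⟨sw_mem, sign_sw_zero⟩
  | k + 1 => ⟨dd_mem (oo_spec k).1 (one_mem _), by rw [oo, sign_dd, (oo_spec k).2, map_one, mul_one]⟩

theorem zz_spec : ∀ k, zz k ∈ W (k + 1) ∧ zz k ≠ 1 ∧ zz k * zz k = 1
  | 0 => ⟨sw_mem, fun h => by
      have := sign_sw_zero
      rw [show (sw : Perm (X 1)) = 1 from h, map_one] at this
      exact absurd this (by decide), sw_mul_sw⟩
  | k + 1 => by
    obtain ⟨h1, h2, h3⟩ := zz_spec k
    refine ⟨dd_mem h1 h1, fun h => h2 ?_, ?_⟩
    · exact (Prod.mk.inj (dd_injective (h.trans (map_one dd).symm))).1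
    · rw [zz, ← map_mul, Prod.mk_mul_mk, h3]
      exact map_one dd

theorem sign_zz_succ (k : ℕ) : Perm.sign (zz (k + 1)) = 1 := by rw [zz, sign_dd, Int.units_mul_self]

theorem sign_sw_succ (k : ℕ) : Perm.sign (sw : Perm (X (k + 2))) = 1 := by
  rw [sign_sw, pow_succ, mul_comm, pow_mul, neg_one_sq, one_pow]

theorem conj_dd_sw (p q u v : Perm (X k)) :
    dd (p, q) * sw * dd (u, v) = dd (p * v * p⁻¹, q * u * q⁻¹) * (dd (p, q) * sw) := by
  rw [mul_assoc, sw_dd, ← mul_assoc, ← map_mul, ← mul_assoc, ← map_mul]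
  simp

theorem W_one_cases {g : Perm (X 1)} (hg : g ∈ W 1) : g = 1 ∨ g = sw := by
  obtain ⟨p, hp, q, hq, h⟩ := mem_W.1 hg
  have hp' : p = 1 := Subgroup.mem_bot.1 hp
  have hq' : q = 1 := Subgroup.mem_bot.1 hq
  subst hp' hq'
  rw [show ((1 : Perm (X 0)), (1 : Perm (X 0))) = 1 from rfl, map_one, one_mul] at h
  exact h

theorem center_W : ∀ (k : ℕ) (g : Perm (X (k + 1))), g ∈ W (k + 1) → (∀ h ∈ W (k + 1), g * h = h * g) → g = 1 ∨ g = zz k
  | 0, g, hg, _ => W_one_cases hg
  | k + 1, g, hg, hc => by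
    obtain ⟨p, hp, q, hq, rfl | rfl⟩ := mem_W.1 hg
    · have h1 := hc sw sw_mem
      rw [sw_dd] at h1
      have hpq := (Prod.mk.inj (dd_injective (mul_right_cancel h1))).1
      subst hpq
      have h2 : ∀ u ∈ W (k + 1), p * u = u * p := fun u hu => by
        have h := hc (dd (u, u)) (dd_mem hu hu)
        rw [← map_mul, ← map_mul] at h
        exact (Prod.mk.inj (dd_injective h)).1
      rcases center_W k p hp h2 with rfl | rfl
      · left; rw [show ((1 : Perm (X (k + 1))), (1 : Perm (X (k + 1)))) = 1 from rfl, map_one]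
      · exact Or.inr rfl
    · exfalso
      obtain ⟨hz, hz1, -⟩ := zz_spec k
      have h := hc (dd (zz k, 1)) (dd_mem hz (one_mem _))
      rw [conj_dd_sw] at h
      have := (Prod.mk.inj (dd_injective (mul_right_cancel h))).1
      rw [mul_one, mul_inv_cancel] at this
      exact hz1 this.symm

theorem zz_central : ∀ (k : ℕ) (h : Perm (X (k + 1))), h ∈ W (k + 1) → zz k * h = h * zz k
  | 0, h, hh => by rcases W_one_cases hh with rfl | rfl <;> simp [zz]
  | k + 1, h, hh => by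
    obtain ⟨p, hp, q, hq, rfl | rfl⟩ := mem_W.1 hh
    · rw [zz, ← map_mul, ← map_mul, Prod.mk_mul_mk, Prod.mk_mul_mk, zz_central k p hp, zz_central k q hq]
    · rw [zz, ← mul_assoc, ← map_mul, Prod.mk_mul_mk, zz_central k p hp, zz_central k q hq, mul_assoc, sw_dd,
        ← mul_assoc, ← map_mul]
      rfl

/-- The centre of the even part. -/
theorem center_even (k : ℕ) (g : Perm (X (k + 3))) (hg : g ∈ W (k + 3))
    (hc : ∀ h ∈ W (k + 3), Perm.sign h = 1 → g * h = h * g) : g = 1 ∨ g = zz (k + 2) := by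
  obtain ⟨p, hp, q, hq, rfl | rfl⟩ := mem_W.1 hg
  · have h1 := hc sw sw_mem (sign_sw_succ _)
    rw [sw_dd] at h1
    have hpq := (Prod.mk.inj (dd_injective (mul_right_cancel h1))).1
    subst hpq
    have h2 : ∀ u ∈ W (k + 2), p * u = u * p := fun u hu => by
      have h := hc (dd (u, u)) (dd_mem hu hu) (by rw [sign_dd, Int.units_mul_self])
      rw [← map_mul, ← map_mul] at h
      exact (Prod.mk.inj (dd_injective h)).1
    rcases center_W (k + 1) p hp h2 with rfl | rfl
    · left; rw [show ((1 : Perm (X (k + 2))), (1 : Perm (X (k + 2)))) = 1 from rfl, map_one]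
    · exact Or.inr rfl
  · exfalso
    obtain ⟨hz, hz1, -⟩ := zz_spec (k + 1)
    have h := hc (dd (zz (k + 1), 1)) (dd_mem hz (one_mem _)) (by rw [sign_dd, sign_zz_succ, map_one, one_mul])
    rw [conj_dd_sw] at h
    have := (Prod.mk.inj (dd_injective (mul_right_cancel h))).1
    rw [mul_one, mul_inv_cancel] at this
    exact hz1 this.symm

/-- Of two commuting subgroups with product `W` one is central. -/
theorem commuting_pair (k : ℕ) (A B : Subgroup (Perm (X (k + 1)))) (hAW : A ≤ W (k + 1)) (hBW : B ≤ W (k + 1))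
    (hcomm : ∀ a ∈ A, ∀ b ∈ B, a * b = b * a) (hgen : ∀ g ∈ W (k + 1), ∃ a ∈ A, ∃ b ∈ B, g = a * b) :
    (∀ a ∈ A, ∀ h ∈ W (k + 1), a * h = h * a) ∨ (∀ b ∈ B, ∀ h ∈ W (k + 1), b * h = h * b) := by
  rcases k with _ | k
  · refine Or.inl fun a ha h hh => ?_
    rcases W_one_cases (hAW ha) with rfl | rfl <;> rcases W_one_cases hh with rfl | rfl <;> simp
  -- an element exchanging the halves
  have key : ∀ A B : Subgroup (Perm (X (k + 2))), A ≤ W (k + 2) → B ≤ W (k + 2) →
      (∀ a ∈ A, ∀ b ∈ B, a * b = b * a) → (∀ g ∈ W (k + 2), ∃ a ∈ A, ∃ b ∈ B, g = a * b) →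
      (∃ g ∈ A, ∃ x ∈ W (k + 1), ∃ y ∈ W (k + 1), g = dd (x, y) * sw) →
      ∀ b ∈ B, ∀ p ∈ W (k + 1), ∀ q ∈ W (k + 1), b = dd (p, q) → ∀ h ∈ W (k + 2), b * h = h * b := by
    intro A B hA hB hcomm hgen hg b hb p hp q hq hbpq
    obtain ⟨g, hgA, x, hx, y, hy, rfl⟩ := hg
    have hnorm : ∀ a ∈ A, ∀ u ∈ W (k + 2), u * a * u⁻¹ ∈ A := by
      intro a ha u hu
      obtain ⟨a', ha', b', hb', rfl⟩ := hgen u hu
      rw [show a' * b' * a * (a' * b')⁻¹ = a' * (b' * a * b'⁻¹) * a'⁻¹ by group, ← hcomm a ha b' hb', mul_inv_cancel_right]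
      exact mul_mem (mul_mem ha' ha) (inv_mem ha')
    have hcd : ∀ u ∈ W (k + 1), p * u = u * p ∧ q * (y * u * y⁻¹) = (y * u * y⁻¹) * q := by
      intro u hu
      have hmem : dd (u⁻¹, y * u * y⁻¹) ∈ A := by
        have h1 := mul_mem hgA (inv_mem (hnorm _ hgA (dd (u, 1)) (dd_mem hu (one_mem _))))
        rw [show dd (x, y) * sw * (dd (u, 1) * (dd (x, y) * sw) * (dd (u, 1))⁻¹)⁻¹ =
          (dd (x, y) * sw * dd (u, 1) * (dd (x, y) * sw)⁻¹) * (dd (u, 1))⁻¹ by group, conj_dd_sw, mul_inv_cancel_right,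
          ← map_inv, ← map_mul] at h1
        simpa using h1
      have h2 := hcomm _ hmem b hb
      rw [hbpq, ← map_mul, ← map_mul] at h2
      obtain ⟨h3, h4⟩ := Prod.mk.inj (dd_injective h2)
      exact ⟨((Commute.inv_left_iff.1 (show Commute u⁻¹ p from h3)).symm).eq, h4.symm⟩
    have hqc : ∀ u ∈ W (k + 1), q * u = u * q := by
      intro u hu
      have h := (hcd (y⁻¹ * u * y) (mul_mem (mul_mem (inv_mem hy) hu) hy)).2
      rwa [show y * (y⁻¹ * u * y) * y⁻¹ = u by group] at h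
    have h2 := hcomm _ hgA b hb
    rw [hbpq, conj_dd_sw] at h2
    have hpq := (Prod.mk.inj (dd_injective (mul_right_cancel h2))).1
    rw [← hqc x hx, mul_inv_cancel_right] at hpq
    subst hpq
    intro h hh
    obtain ⟨u, hu, v, hv, rfl | rfl⟩ := mem_W.1 hh
    · rw [hbpq, ← map_mul, ← map_mul, Prod.mk_mul_mk, Prod.mk_mul_mk, (hcd u hu).1, (hcd v hv).1]
    · rw [hbpq, ← mul_assoc, ← map_mul, mul_assoc (dd (u, v)), sw_dd, ← mul_assoc, ← map_mul, Prod.mk_mul_mk,
        Prod.mk_mul_mk, (hcd u hu).1, (hcd v hv).1]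
  by_cases hA : ∃ g ∈ A, ∃ x ∈ W (k + 1), ∃ y ∈ W (k + 1), g = dd (x, y) * sw
  · by_cases hB : ∃ g ∈ B, ∃ x ∈ W (k + 1), ∃ y ∈ W (k + 1), g = dd (x, y) * sw
    · exfalso
      have hkA := key B A hBW hAW (fun b hb a ha => (hcomm a ha b hb).symm) (fun g hg => by
        obtain ⟨a, ha, b, hb, rfl⟩ := hgen g hg
        exact ⟨b, hb, a, ha, hcomm a ha b hb⟩) hB
      have hkB := key A B hAW hBW hcomm hgen hA
      have habel : ∀ A : Subgroup (Perm (X (k + 2))), A ≤ W (k + 2) →
          (∀ a ∈ A, ∀ p ∈ W (k + 1), ∀ q ∈ W (k + 1), a = dd (p, q) → ∀ h ∈ W (k + 2), a * h = h * a) →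
          ∀ a ∈ A, ∀ a' ∈ A, a * a' = a' * a := by
        intro A hA hk a ha a' ha'
        obtain ⟨p, hp, q, hq, rfl | rfl⟩ := mem_W.1 (hA ha)
        · exact hk _ ha p hp q hq rfl a' (hA ha')
        obtain ⟨p', hp', q', hq', rfl | rfl⟩ := mem_W.1 (hA ha')
        · exact (hk _ ha' p' hp' q' hq' rfl _ (hA ha)).symm
        · have e : dd (p, q) * sw * (dd (p', q') * sw)⁻¹ = dd (p * p'⁻¹, q * q'⁻¹) := by
            rw [mul_inv_rev, ← mul_assoc, mul_inv_cancel_right, ← map_inv, ← map_mul]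
            rfl
          have hm := hk _ (mul_mem ha (inv_mem ha')) _ (mul_mem hp (inv_mem hp')) _ (mul_mem hq (inv_mem hq')) e _ (hA ha')
          rw [inv_mul_cancel_right, ← mul_assoc] at hm
          exact (eq_mul_inv_iff_mul_eq.1 hm)
      have hab : ∀ g ∈ W (k + 2), ∀ h ∈ W (k + 2), g * h = h * g := by
        intro g hg h hh
        obtain ⟨a, ha, b, hb, rfl⟩ := hgen g hg
        obtain ⟨a', ha', b', hb', rfl⟩ := hgen h hh
        calc a * b * (a' * b') = a * (b * a') * b' := by group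
          _ = a * (a' * b) * b' := by rw [hcomm a' ha' b hb]
          _ = (a * a') * (b * b') := by group
          _ = (a' * a) * (b' * b) := by rw [habel A hAW hkA a ha a' ha', habel B hBW hkB b hb b' hb']
          _ = a' * (a * b') * b := by group
          _ = a' * (b' * a) * b := by rw [hcomm a ha b' hb']
          _ = a' * b' * (a * b) := by group
      obtain ⟨hz, hz1, -⟩ := zz_spec k
      have h := hab sw sw_mem (dd (zz k, 1)) (dd_mem hz (one_mem _))
      rw [sw_dd] at h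
      exact hz1 (Prod.mk.inj (dd_injective (mul_right_cancel h))).1.symm
    · refine Or.inr fun b hb => ?_
      obtain ⟨p, hp, q, hq, h | h⟩ := mem_W.1 (hBW hb)
      · exact key A B hAW hBW hcomm hgen hA b hb p hp q hq h
      · exact absurd ⟨b, hb, p, hp, q, hq, h⟩ hB
  · by_cases hB : ∃ g ∈ B, ∃ x ∈ W (k + 1), ∃ y ∈ W (k + 1), g = dd (x, y) * sw
    · refine Or.inl fun a ha => ?_
      obtain ⟨p, hp, q, hq, h | h⟩ := mem_W.1 (hAW ha)
      · exact key B A hBW hAW (fun b hb a ha => (hcomm a ha b hb).symm) (fun g hg => by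
          obtain ⟨a, ha, b, hb, rfl⟩ := hgen g hg
          exact ⟨b, hb, a, ha, hcomm a ha b hb⟩) hB a ha p hp q hq h
      · exact absurd ⟨a, ha, p, hp, q, hq, h⟩ hA
    · exfalso
      obtain ⟨a, ha, b, hb, h⟩ := hgen sw sw_mem
      obtain ⟨p, hp, q, hq, rfl | rfl⟩ := mem_W.1 (hAW ha)
      · obtain ⟨p', hp', q', hq', rfl | rfl⟩ := mem_W.1 (hBW hb)
        · rw [← map_mul] at h
          exact dd_ne_dd_sw (p * p') (q * q') 1 1 (by
            rw [show ((1 : Perm (X (k + 1))), (1 : Perm (X (k + 1)))) = 1 from rfl, map_one, one_mul]; exact h.symm)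
        · exact hB ⟨_, hb, p', hp', q', hq', rfl⟩
      · exact hA ⟨_, ha, p, hp, q, hq, rfl⟩

end Cfsg.Lib.SymSylow.EvenTwo
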